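import Groth.Agent.SiteBase.FlatRel
import Groth.Agent.SiteBase.LocalLift

/-!
# Maps from finitely presented modules to flat modules factor locally through finite free modules
-/

set_option autoImplicit false
set_option linter.style.haveILetI false
set_option backward.isDefEq.respectTransparency false
set_option backward.isDefEq.respectTransparency.types false

universe u

open CategoryTheory CategoryTheory.Limits Opposite
open Groth.Agent.ModTensor Groth.Agent.SuppCore

namespace Groth.Agent.ModFac

variable {C : Type u} [SmallCategory C] {J : GrothendieckTopology C} {O : Sheaf J CommRingCat.{u}}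

noncomputable section

/-- The value at an object of a map out of the structure sheaf. -/
def uval {G : ModSite.Mod O} (φ : ModSite.unit O ⟶ G) (W : C) : ModSite.sect G W :=
  (G.unitHomEquiv φ).val (op W)

lemma uval_comp {G H : ModSite.Mod O} (φ : ModSite.unit O ⟶ G) (h : G ⟶ H) (W : C) :
    uval (φ ≫ h) W = (h.val.app (op W)).hom (uval φ W) := rfl

lemma uval_unit_comp {G : ModSite.Mod O} (s : ModSite.unit O ⟶ ModSite.unit O)
    (φ : ModSite.unit O ⟶ G) (W : C) :
    uval (s ≫ φ) W = (show O.obj.obj (op W) from uval s W) • uval φ W := by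
  let r : O.obj.obj (op W) := uval s W
  show (φ.val.app (op W)).hom r = r • (φ.val.app (op W)).hom (1 : O.obj.obj (op W))
  exact (congrArg (φ.val.app (op W)).hom (mul_one r).symm).trans
    (map_smul (φ.val.app (op W)).hom r (1 : O.obj.obj (op W)))

lemma uval_overUnitHom (G : ModSite.Mod O) {W : C} (t : ModSite.sect G W) (V : Over W) :
    uval (O := O.over W) (overUnitHom G t) V = (G.val.map V.hom.op).hom t :=
  congrArg (fun z : ((ModSite.restr O W).obj G).sections => z.val (op V))
    (Equiv.apply_symm_apply _ (overSection G t))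

lemma overUnitHom_add (G : ModSite.Mod O) {W : C} (a b : ModSite.sect G W) :
    overUnitHom G (a + b) = overUnitHom G a + overUnitHom G b := by
  refine ((ModSite.restr O W).obj G).unitHomEquiv.injective (Subtype.ext (funext fun V => ?_))
  show uval (O := O.over W) (overUnitHom G (a + b)) V.unop =
    uval (O := O.over W) (overUnitHom G a + overUnitHom G b) V.unop
  refine (uval_overUnitHom G (a + b) V.unop).trans ?_
  refine (map_add (G.val.map V.unop.hom.op).hom a b).trans ?_
  exact congrArg₂ (· + ·) (uval_overUnitHom G a V.unop).symm (uval_overUnitHom G b V.unop).symm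

lemma overUnitHom_zero (G : ModSite.Mod O) {W : C} : overUnitHom G (0 : ModSite.sect G W) = 0 := by
  have h := overUnitHom_add G (W := W) 0 0
  rw [add_zero] at h
  exact left_eq_add.mp h

lemma overUnitHom_sum (G : ModSite.Mod O) {W : C} {κ : Type*} (s : Finset κ)
    (f : κ → ModSite.sect G W) : overUnitHom G (∑ k ∈ s, f k) = ∑ k ∈ s, overUnitHom G (f k) :=
  map_sum (AddMonoidHom.mk' (overUnitHom G) (overUnitHom_add G)) f s

lemma overUnitHom_smul (G : ModSite.Mod O) {W : C} (r : O.obj.obj (op W)) (t : ModSite.sect G W) :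
    overUnitHom G (r • t) = overUnitHom (ModSite.unit O) r ≫ overUnitHom G t := by
  refine ((ModSite.restr O W).obj G).unitHomEquiv.injective (Subtype.ext (funext fun V => ?_))
  show uval (O := O.over W) (overUnitHom G (r • t)) V.unop =
    uval (O := O.over W) (overUnitHom (ModSite.unit O) r ≫ overUnitHom G t) V.unop
  refine (uval_overUnitHom G (r • t) V.unop).trans ?_
  refine Eq.trans ?_ (uval_unit_comp (O := O.over W) (overUnitHom (ModSite.unit O) r)
    (overUnitHom G t) V.unop).symm
  refine Eq.trans (PresheafOfModules.map_smul G.val V.unop.hom.op r t) (congrArg₂ (· • ·) ?_ ?_)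
  · exact (uval_overUnitHom (ModSite.unit O) r V.unop).symm
  · exact (uval_overUnitHom G t V.unop).symm

/-- Projections of a finite free module. -/
def proj {I : Type u} [DecidableEq I] (j : I) :
    SheafOfModules.free (R := ModSite.ringSh O) I ⟶ ModSite.unit O :=
  Cofan.IsColimit.desc (SheafOfModules.isColimitFreeCofan I) (fun i => if i = j then 𝟙 _ else 0)

lemma sum_proj_ιFree (I : Type u) [Fintype I] [DecidableEq I] :
    ∑ j, proj (O := O) j ≫ SheafOfModules.ιFree j = 𝟙 (SheafOfModules.free (R := ModSite.ringSh O) I) := by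
  refine Cofan.IsColimit.hom_ext (SheafOfModules.isColimitFreeCofan I) _ _ fun i => ?_
  show SheafOfModules.ιFree i ≫ _ = SheafOfModules.ιFree i ≫ _
  have hp : ∀ j, SheafOfModules.ιFree i ≫ proj (O := O) j = if i = j then 𝟙 _ else 0 := fun j =>
    Cofan.IsColimit.fac (SheafOfModules.isColimitFreeCofan I) _ i
  rw [Preadditive.comp_sum, Finset.sum_eq_single i, ← Category.assoc, hp, if_pos rfl]
  · simp
  · intro j _ hj
    rw [← Category.assoc, hp, if_neg (Ne.symm hj), zero_comp]
  · simp

section Presented

variable {F H : ModSite.Mod O} {I₀ I₁ : Type u} [Fintype I₀] [DecidableEq I₀] [Fintype I₁]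
  (f : SheafOfModules.free (R := ModSite.ringSh O) I₁ ⟶ SheafOfModules.free I₀)
  (g : SheafOfModules.free (R := ModSite.ringSh O) I₀ ⟶ F) (w : f ≫ g = 0)
  (hc : IsColimit (CokernelCofork.ofπ g w)) (ψ : F ⟶ H)

/-- A matrix entry of the relations. -/
def coefRel (l : I₁) (y : I₀) : ModSite.unit O ⟶ ModSite.unit O :=
  SheafOfModules.ιFree l ≫ f ≫ proj y

/-- The image of a generator. -/
def genImg (y : I₀) : ModSite.unit O ⟶ H :=
  SheafOfModules.ιFree y ≫ g ≫ ψ

include w in
lemma sum_coefRel_genImg (l : I₁) : ∑ y, coefRel f l y ≫ genImg g ψ y = 0 := by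
  simp only [coefRel, genImg, Category.assoc]
  rw [← Preadditive.comp_sum, ← Preadditive.comp_sum]
  simp only [← Category.assoc]
  rw [← Preadditive.sum_comp, ← Preadditive.sum_comp, sum_proj_ιFree, Category.id_comp]
  rw [Category.assoc, ← Category.assoc f g, w, zero_comp, comp_zero]

include w in
lemma sum_uval_smul (W : C) (l : I₁) :
    ∑ y, (show O.obj.obj (op W) from uval (coefRel f l y) W) • uval (genImg g ψ y) W = 0 := by
  have e := congrArg (fun φ : ModSite.unit O ⟶ H => (φ.val.app (op W)).hom (1 : O.obj.obj (op W)))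
    (sum_coefRel_genImg f g w ψ l)
  let ev : (ModSite.unit O ⟶ H) →+ ModSite.sect H W :=
    AddMonoidHom.mk' (fun φ => uval φ W) (fun _ _ => rfl)
  have e' : ev (∑ y, coefRel f l y ≫ genImg g ψ y) = 0 := by
    rw [sum_coefRel_genImg f g w ψ l, map_zero]
  rw [map_sum] at e'
  refine Eq.trans (Finset.sum_congr rfl fun y _ => ?_) e'
  exact (uval_unit_comp (coefRel f l y) (genImg g ψ y) W).symm

include hc in
/-- Given a trivialisation of the relations at `W`, the map factors over `W`. -/
theorem exists_fac (W : C) (n : ℕ) (N : Fin n → I₀ → O.obj.obj (op W)) (t : Fin n → ModSite.sect H W)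
    (ht : ∀ y, uval (genImg g ψ y) W = ∑ j, N j y • t j)
    (hN : ∀ l j, ∑ y, (show O.obj.obj (op W) from uval (coefRel f l y) W) * N j y = 0) :
    ∃ (a : (ModSite.restr O W).obj F ⟶
        SheafOfModules.free (R := ModSite.ringSh (O.over W)) (ULift.{u} (Fin n)))
      (b : SheafOfModules.free (R := ModSite.ringSh (O.over W)) (ULift.{u} (Fin n)) ⟶
        (ModSite.restr O W).obj H),
      a ≫ b = (ModSite.restr O W).map ψ := by
  have : PreservesFiniteColimits (ModSite.restr O W) := preservesFiniteColimits_restr W
  let h₀ := isColimitCofanMkObjOfIsColimit (ModSite.restr O W) _ _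
    (SheafOfModules.isColimitFreeCofan (R := ModSite.ringSh O) I₀)
  let h₁ := isColimitCofanMkObjOfIsColimit (ModSite.restr O W) _ _
    (SheafOfModules.isColimitFreeCofan (R := ModSite.ringSh O) I₁)
  let sc : O.obj.obj (op W) → (ModSite.unit (O.over W) ⟶ ModSite.unit (O.over W)) :=
    fun r => overUnitHom (ModSite.unit O) r
  let a₀ : (ModSite.restr O W).obj (SheafOfModules.free I₀) ⟶
      SheafOfModules.free (R := ModSite.ringSh (O.over W)) (ULift.{u} (Fin n)) :=
    Cofan.IsColimit.desc h₀ fun y => ∑ j, sc (N j y) ≫ SheafOfModules.ιFree ⟨j⟩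
  have ha₀ : ∀ y, (ModSite.restr O W).map (SheafOfModules.ιFree y) ≫ a₀ =
      ∑ j, sc (N j y) ≫ SheafOfModules.ιFree ⟨j⟩ := fun y => Cofan.IsColimit.fac h₀ _ y
  have hzero : (ModSite.restr O W).map f ≫ a₀ = 0 := by
    refine Cofan.IsColimit.hom_ext h₁ _ _ fun l => ?_
    show (ModSite.restr O W).map (SheafOfModules.ιFree l) ≫ _ =
      (ModSite.restr O W).map (SheafOfModules.ιFree l) ≫ 0
    have e : SheafOfModules.ιFree l ≫ f = ∑ y, coefRel f l y ≫ SheafOfModules.ιFree y := by
      simp only [coefRel, Category.assoc]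
      rw [← Preadditive.comp_sum, ← Preadditive.comp_sum, sum_proj_ιFree, Category.comp_id]
    rw [comp_zero, ← Category.assoc, ← Functor.map_comp, e, Functor.map_sum, Preadditive.sum_comp]
    simp only [Functor.map_comp, Category.assoc, ha₀, Preadditive.comp_sum]
    rw [Finset.sum_comm]
    refine Finset.sum_eq_zero fun j _ => ?_
    have e2 : ∀ y, (ModSite.restr O W).map (coefRel f l y) ≫ sc (N j y) =
        overUnitHom (ModSite.unit O)
          ((show O.obj.obj (op W) from uval (coefRel f l y) W) * N j y) := fun y => by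
      refine Eq.trans ?_ (overUnitHom_smul (ModSite.unit O) _ (N j y)).symm
      exact congrArg (· ≫ sc (N j y)) (restr_map_unitHom (coefRel f l y) W)
    simp only [← Category.assoc]
    rw [← Preadditive.sum_comp]
    refine Eq.trans (congrArg (· ≫ _) ?_) zero_comp
    refine (Finset.sum_congr rfl fun y _ => e2 y).trans ?_
    rw [← overUnitHom_sum, hN l j, overUnitHom_zero]
  let hc' := CokernelCofork.mapIsColimit _ hc (ModSite.restr O W)
  obtain ⟨a, ha⟩ := CokernelCofork.IsColimit.desc' hc' a₀ hzero
  let b : SheafOfModules.free (R := ModSite.ringSh (O.over W)) (ULift.{u} (Fin n)) ⟶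
      (ModSite.restr O W).obj H :=
    Cofan.IsColimit.desc (SheafOfModules.isColimitFreeCofan _) fun j => overUnitHom H (t j.down)
  have hb : ∀ j, SheafOfModules.ιFree ⟨j⟩ ≫ b = overUnitHom H (t j) := fun j =>
    Cofan.IsColimit.fac (SheafOfModules.isColimitFreeCofan _) _ _
  refine ⟨a, b, Cofork.IsColimit.hom_ext hc' ?_⟩
  refine (Category.assoc _ _ _).symm.trans ((congrArg (· ≫ b) ha).trans ?_)
  refine Cofan.IsColimit.hom_ext h₀ _ _ fun y => ?_
  show (ModSite.restr O W).map (SheafOfModules.ιFree y) ≫ _ =
    (ModSite.restr O W).map (SheafOfModules.ιFree y) ≫ ((ModSite.restr O W).map g ≫ (ModSite.restr O W).map ψ)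
  rw [← Category.assoc, ha₀, Preadditive.sum_comp]
  simp only [← Functor.map_comp, Category.assoc, hb]
  refine Eq.trans ?_ (restr_map_unitHom (genImg g ψ y) W).symm
  refine Eq.trans ?_ (congrArg (overUnitHom H) (ht y).symm)
  rw [overUnitHom_sum]
  exact Finset.sum_congr rfl fun j _ => (overUnitHom_smul H (N j y) (t j)).symm

end Presented

section Presentation

variable {G H : ModSite.Mod O} (P : SheafOfModules.Presentation.{u, u, u} G) (ψ : G ⟶ H)

/-- The map of relations of a presentation. -/
abbrev presMap : SheafOfModules.free (R := ModSite.ringSh O) P.relations.I ⟶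
    SheafOfModules.free P.generators.I :=
  (SheafOfModules.freeHomEquiv _).symm P.relations.s ≫ kernel.ι _

lemma presMap_π : presMap P ≫ P.generators.π = 0 := by
  rw [presMap, Category.assoc, kernel.condition, comp_zero]

/-- A matrix entry of the relations of a presentation. -/
def presCoef [DecidableEq P.generators.I] (W : C) (l : P.relations.I) (y : P.generators.I) :
    O.obj.obj (op W) :=
  uval (coefRel (presMap P) l y) W

/-- The image of a generator of a presentation. -/
def presImg (W : C) (y : P.generators.I) : ModSite.sect H W :=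
  uval (genImg P.generators.π ψ y) W

lemma presCoef_map [DecidableEq P.generators.I] {V W : C} (k : V ⟶ W) (l : P.relations.I)
    (y : P.generators.I) : (O.obj.map k.op).hom (presCoef P W l y) = presCoef P V l y :=
  (SheafOfModules.unitHomEquiv _ (coefRel (presMap P) l y)).property k.op

lemma presImg_map {V W : C} (k : V ⟶ W) (y : P.generators.I) :
    (H.val.map k.op).hom (presImg P ψ W y) = presImg P ψ V y :=
  (SheafOfModules.unitHomEquiv _ (genImg P.generators.π ψ y)).property k.op

lemma sum_presCoef_smul [DecidableEq P.generators.I] [Fintype P.generators.I] [Fintype P.relations.I] (W : C)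
    (l : P.relations.I) : ∑ y, presCoef P W l y • presImg P ψ W y = 0 :=
  sum_uval_smul (presMap P) P.generators.π (presMap_π P) ψ W l

/-- Factorisation over an object where the relations are trivialised. -/
theorem exists_fac_pres [DecidableEq P.generators.I] [Fintype P.generators.I] [Fintype P.relations.I]
    (W : C) (n : ℕ) (N : Fin n → P.generators.I → O.obj.obj (op W)) (t : Fin n → ModSite.sect H W)
    (ht : ∀ y, presImg P ψ W y = ∑ j, N j y • t j)
    (hN : ∀ l j, ∑ y, presCoef P W l y * N j y = 0) :
    ∃ (a : (ModSite.restr O W).obj G ⟶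
        SheafOfModules.free (R := ModSite.ringSh (O.over W)) (ULift.{u} (Fin n)))
      (b : SheafOfModules.free (R := ModSite.ringSh (O.over W)) (ULift.{u} (Fin n)) ⟶
        (ModSite.restr O W).obj H),
      a ≫ b = (ModSite.restr O W).map ψ :=
  exists_fac (presMap P) P.generators.π (presMap_π P) P.isColimit ψ W n N t ht hN

/-- Factorisation from a trivialisation, with the indices renumbered. -/
theorem exists_fac_pres' [DecidableEq P.generators.I] [Fintype P.generators.I] [Fintype P.relations.I]
    {V W : C} (k : V ⟶ W) {cy cl : ℕ} (e : Fin cy ≃ P.generators.I) (el : Fin cl ≃ P.relations.I)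
    (n : ℕ) (N : Fin n → Fin cy → O.obj.obj (op V)) (t : Fin n → ModSite.sect H V)
    (ht : ∀ y, (H.val.map k.op).hom (presImg P ψ W (e y)) = ∑ j, N j y • t j)
    (hN : ∀ l j, ∑ y, (O.obj.map k.op).hom (presCoef P W (el l) (e y)) * N j y = 0) :
    ∃ (a : (ModSite.restr O V).obj G ⟶
        SheafOfModules.free (R := ModSite.ringSh (O.over V)) (ULift.{u} (Fin n)))
      (b : SheafOfModules.free (R := ModSite.ringSh (O.over V)) (ULift.{u} (Fin n)) ⟶
        (ModSite.restr O V).obj H),
      a ≫ b = (ModSite.restr O V).map ψ := by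
  refine exists_fac_pres P ψ V n (fun j y => N j (e.symm y)) t (fun y => ?_) (fun l j => ?_)
  · have h := ht (e.symm y)
    rw [presImg_map, Equiv.apply_symm_apply] at h
    exact h
  · have h := hN (el.symm l) j
    simp only [presCoef_map, Equiv.apply_symm_apply] at h
    refine Eq.trans ?_ h
    refine (Fintype.sum_equiv e _ _ fun y => ?_).symm
    rw [Equiv.symm_apply_apply]

end Presentation

end

end Groth.Agent.ModFac
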