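import Groth.Agent.ModFac.Basic

/-!
# Local factorisation on a site
-/

set_option autoImplicit false
set_option linter.style.haveILetI false
set_option backward.isDefEq.respectTransparency false
set_option backward.isDefEq.respectTransparency.types false

universe u

open CategoryTheory CategoryTheory.Limits Opposite
open Groth.Agent.ModTensor Groth.Agent.ModPull Groth.Agent.SuppCore

namespace Groth.Agent.ModFac

variable {C : Type u} [SmallCategory C] {J : GrothendieckTopology C} {O : Sheaf J CommRingCat.{u}}

noncomputable section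

variable (O) in
/-- The comparison between a localisation of a localisation and a localisation. -/
def iterEquiv {X₀ : C} (P : Over X₀) :=
  SheafOfModules.pushforwardPushforwardEquivalence (Over.iteratedSliceEquiv P)
    (S := ((ModSite.ringSh O).over X₀).over P) (R := (ModSite.ringSh O).over P.left) (𝟙 _) (𝟙 _)
    (by ext : 2; exact (ModSite.ringSh O).1.map_id _) (by ext : 2; exact (ModSite.ringSh O).1.map_id _)

variable (O) in
/-- Restricting twice. -/
def iterRestrIso {X₀ : C} (P : Over X₀) :
    ModSite.restr O X₀ ⋙ ModSite.restr (O.over X₀) P ⋙ (iterEquiv O P).inverse ≅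
      ModSite.restr O P.left :=
  NatIso.ofComponents (fun M => (SheafOfModules.fullyFaithfulForget _).preimageIso
    (PresheafOfModules.isoMk (fun _ => Iso.refl _)))

set_option maxHeartbeats 1600000 in
theorem exists_fac_locally {F H : ModSite.Mod O} [F.IsFinitePresentation] (hH : ModSite.IsFlat H)
    (φ : F ⟶ H) (X : C) :
    Locally J X (fun V _ => ∃ (n : ℕ)
      (a : (ModSite.restr O V).obj F ⟶ SheafOfModules.free (ULift.{u} (Fin n)))
      (b : SheafOfModules.free (ULift.{u} (Fin n)) ⟶ (ModSite.restr O V).obj H),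
      a ≫ b = (ModSite.restr O V).map φ) := by
  classical
  obtain ⟨σ, hσ⟩ := SheafOfModules.IsFinitePresentation.exists_quasicoherentData F
  obtain ⟨S, hS, hS'⟩ : Locally J X (fun V _ => ∃ i, Nonempty (V ⟶ σ.X i)) :=
    ⟨_, σ.coversTop X, fun V g hg => (Sieve.mem_ofObjects_iff ..).1 hg⟩
  refine Locally.bind (P := fun V _ => ∃ i, Nonempty (V ⟶ σ.X i)) ⟨S, hS, hS'⟩ ?_
  rintro V g ⟨i, ⟨q⟩⟩
  haveI := hσ.isFinite_presentation i
  let P := σ.presentation i
  letI := Fintype.ofFinite P.generators.I
  letI := Fintype.ofFinite P.relations.I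
  let ψ := (ModSite.restr O (σ.X i)).map φ
  let P₀ : Over (σ.X i) := Over.mk q
  let e : Fin (Fintype.card P.generators.I) ≃ P.generators.I := (Fintype.equivFin _).symm
  let el : Fin (Fintype.card P.relations.I) ≃ P.relations.I := (Fintype.equivFin _).symm
  let c : Fin (Fintype.card P.relations.I) → Fin (Fintype.card P.generators.I) → O.obj.obj (op V) :=
    fun l y => presCoef (O := O.over (σ.X i)) P P₀ (el l) (e y)
  let m : Fin (Fintype.card P.generators.I) → ((fg O).obj H).obj (op V) :=
    fun y => presImg (O := O.over (σ.X i)) P ψ P₀ (e y)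
  have hcm : ∀ l, ∑ y, c l y • m y = 0 := fun l =>
    (Fintype.sum_equiv e _ _ fun y => rfl).trans (sum_presCoef_smul (O := O.over (σ.X i)) P ψ P₀ (el l))
  have key := exists_trivialisation (W := V) hH c m hcm
  refine Locally.mono key fun V' k hk => ?_
  obtain ⟨n, N, t, ht, hN⟩ := hk
  let P' : Over (σ.X i) := Over.mk (k ≫ q)
  let kk : P' ⟶ P₀ := Over.homMk k
  obtain ⟨a, b, hab⟩ := exists_fac_pres' (O := O.over (σ.X i)) P ψ kk e el n N t ht hN
  let T := (iterEquiv O P').inverse
  haveI : PreservesColimitsOfSize.{u, u} T := inferInstance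
  haveI : PreservesColimitsOfSize.{0, 0} T := preservesColimitsOfSize_shrink _
  let η : SheafOfModules.unit ((ModSite.ringSh O).over V') ≅
      T.obj (SheafOfModules.unit (((ModSite.ringSh O).over (σ.X i)).over P')) := Iso.refl _
  let ef := SheafOfModules.mapFreeIso T (ULift.{u} (Fin n)) η
  refine ⟨n, ((iterRestrIso O P').app F).inv ≫ T.map a ≫ ef.inv,
    ef.hom ≫ T.map b ≫ ((iterRestrIso O P').app H).hom, ?_⟩
  simp only [Category.assoc, Iso.inv_hom_id_assoc]
  rw [← Category.assoc (T.map a), ← T.map_comp, hab]
  exact ((iterRestrIso O P').app F).inv_comp_eq.2 ((iterRestrIso O P').hom.naturality φ)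

end

end Groth.Agent.ModFac
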